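import Cfsg.Agent.Lib.Comp.M11x.Main
import Cfsg.Agent.Lib.MatB.Gol
import Cfsg.Agent.Lib.Golay.M12

set_option maxRecDepth 100000

namespace Cfsg.Lib.Comp.M11x

open Cfsg.Lib.MatB

def gs : List ℕ := [0x17161514131211100f0e0d0c0b0a09080706050403020100, 0xa13070516120e090b0f081011170401140d150c03020600,
  0xa13050716120b0c0e1106040f17100d1501140903020800, 0x16170e0b0a120501071410061513080c11090f0d03020400,
  0x16170b0e0a12070d05150408141306090f0c110103021000, 0x170f150a0e12110d161310010b1404020506070903080c00,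
  0xb141516131211090a0e0401170f10080503070d06020c00, 0x150e17140f06110113160c0d0b0a04080512070903021000]

theorem gs_in : ∀ g ∈ gs, Golay.gc.InH Spor.M11 g := Golay.inH_M11 (by decide +kernel)

theorem gs_pres : IvOK (gl gs_in) iv ∧ Rels (gl gs_in) R := presB_sound gs_in (by decide +kernel)

theorem perm : Nonempty (Spor.M11 ≃* cl (gp nets) L) := by
  obtain ⟨-, e, -⟩ := equiv_of_sol simple nets_iv nets_rel ord card Golay.card_M11 gs_pres.1 gs_pres.2 (x := 1)
    (by decide) (by rw [← ev_single (gl gs_in)]; exact ev_gl_ne gs_in (w := []) (by decide +kernel))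
  exact ⟨e.symm⟩

end Cfsg.Lib.Comp.M11x
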