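import Cfsg.Agent.Lib.Comp.M11x.Main
import Cfsg.Agent.Lib.Comp.Out

set_option maxRecDepth 100000
set_option Elab.async false

namespace Cfsg.Lib.Comp.M11x

universe u

noncomputable def on_1 : Net :=
 (Net.cons 6 (nat_lit 0x28)
 (Net.cons 1 (nat_lit 0x208)
 (Net.cons 1 (nat_lit 0x482)
 (Net.cons 1 (nat_lit 0x1)
 (Net.cons 3 (nat_lit 0x141)
 (Net.cons 6 (nat_lit 0x31)
 Net.nil))))))

noncomputable def on_2 : Net :=
 (Net.cons 6 (nat_lit 0x24)
 (Net.cons 3 (nat_lit 0x80)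
 (Net.cons 1 (nat_lit 0x201)
 (Net.cons 1 (nat_lit 0x480)
 (Net.cons 3 (nat_lit 0x1c3)
 (Net.cons 6 (nat_lit 0x36)
 Net.nil))))))

noncomputable def on_3 : Net :=
 (Net.cons 6 (nat_lit 0x10)
 (Net.cons 3 (nat_lit 0x6)
 (Net.cons 1 (nat_lit 0x41)
 (Net.cons 1 (nat_lit 0x2)
 (Net.cons 3 (nat_lit 0xc7)
 (Net.cons 6 (nat_lit 0x10)
 Net.nil))))))

noncomputable def on_4 : Net :=
 (Net.cons 3 (nat_lit 0x180)
 (Net.cons 1 (nat_lit 0x248)
 (Net.cons 1 (nat_lit 0x402)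
 (Net.cons 1 (nat_lit 0x201)
 (Net.cons 3 (nat_lit 0x141)
 Net.nil)))))

noncomputable def on_5 : Net :=
 (Net.cons 6 (nat_lit 0x4)
 (Net.cons 3 (nat_lit 0x102)
 (Net.cons 1 (nat_lit 0x208)
 (Net.cons 1 (nat_lit 0x400)
 (Net.cons 1 (nat_lit 0x200)
 (Net.cons 3 (nat_lit 0x1c4)
 (Net.cons 6 (nat_lit 0x2)
 Net.nil)))))))

noncomputable def on_11 : Net :=
 (Net.cons 6 (nat_lit 0x38)
 (Net.cons 3 (nat_lit 0x106)
 (Net.cons 1 (nat_lit 0x208)
 (Net.cons 1 (nat_lit 0x90)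
 (Net.cons 1 (nat_lit 0x40)
 (Net.cons 3 (nat_lit 0xc4)
 (Net.cons 6 (nat_lit 0x22)
 Net.nil)))))))

noncomputable def on_13 : Net :=
 (Net.cons 3 (nat_lit 0x4)
 (Net.cons 1 (nat_lit 0x40)
 (Net.cons 1 (nat_lit 0x82)
 (Net.cons 1 (nat_lit 0x40)
 (Net.cons 3 (nat_lit 0x40)
 (Net.cons 6 (nat_lit 0xa)
 Net.nil))))))

noncomputable def on_15 : Net :=
 (Net.cons 6 (nat_lit 0x28)
 (Net.cons 3 (nat_lit 0x104)
 (Net.cons 1 (nat_lit 0x48)
 (Net.cons 1 (nat_lit 0x490)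
 (Net.cons 1 (nat_lit 0x40)
 (Net.cons 3 (nat_lit 0x4)
 (Net.cons 6 (nat_lit 0x20)
 Net.nil)))))))

noncomputable def on_17 : Net :=
 (Net.cons 6 (nat_lit 0x38)
 (Net.cons 3 (nat_lit 0x4)
 (Net.cons 1 (nat_lit 0x490)
 (Net.cons 1 (nat_lit 0x40)
 (Net.cons 3 (nat_lit 0xc4)
 (Net.cons 6 (nat_lit 0x2c)
 Net.nil))))))

noncomputable def on_19 : Net :=
 (Net.cons 6 (nat_lit 0x30)
 (Net.cons 1 (nat_lit 0x480)
 (Net.cons 1 (nat_lit 0x240)
 (Net.cons 3 (nat_lit 0x180)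
 (Net.cons 6 (nat_lit 0x28)
 Net.nil)))))

noncomputable def on_21 : Net :=
 (Net.cons 6 (nat_lit 0x14)
 (Net.cons 3 (nat_lit 0x84)
 (Net.cons 1 (nat_lit 0x200)
 (Net.cons 1 (nat_lit 0x10)
 (Net.cons 1 (nat_lit 0x8)
 (Net.cons 3 (nat_lit 0x40)
 (Net.cons 6 (nat_lit 0xc)
 Net.nil)))))))

noncomputable def on : List Net := [Net.nil,
 on_1,
 on_2,
 on_3,
 on_4,
 on_5,
 Net.rev on_5,
 Net.nil,
 Net.rev on_1,
 Net.rev on_2,
 Net.rev on_3,
 on_11,
 Net.rev on_11,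
 on_13,
 Net.rev on_13,
 on_15,
 Net.rev on_15,
 on_17,
 Net.rev on_17,
 on_19,
 Net.rev on_19,
 on_21,
 Net.rev on_21]

theorem on_ok : NetsOK 12 on := netsOK_of (by decide +kernel)

noncomputable def opi : Net :=
 (Net.cons 6 (nat_lit 0x10)
 (Net.cons 3 (nat_lit 0x100)
 (Net.cons 1 (nat_lit 0x201)
 (Net.cons 1 (nat_lit 0x402)
 (Net.cons 1 (nat_lit 0x201)
 (Net.cons 3 (nat_lit 0x1c4)
 (Net.cons 6 (nat_lit 0x1a)
 Net.nil)))))))

theorem opi_ok : opi.ok 12 := ok_of_netOK (by decide +kernel)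

def oL : List ℕ := [1,2,3,4,5,6,8,9,10,11,12,13,14,15,16,17,18,19,20,21,22]

noncomputable def oC : List Lev := [([11,12,13,14,15,16,17,18,19,20,21,22],[1,3,1,1,1],0,0,11),
 ([15,16,17,18,19,20,21,22],[11,13,19,15],1,1,10),
 ([19,20,21,22],[15,15,17,21,15],2,2,9),
 ([],[19,21,19,19],3,3,8)]

noncomputable def oD : List (ℕ × List ℕ) := [(8,[1,1,1,1,1,1,1,1,1,1]),
 (9,[2,2,2,2]),
 (10,[3,3,3]),
 (11,[3,1,1,10,1,9]),
 (12,[2,8,3,8,8,10]),
 (13,[3,2,8]),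
 (14,[1,9,10]),
 (15,[13,12,14,12]),
 (16,[11,13,11,14]),
 (17,[13,11,13,12,14]),
 (18,[13,11,14,12,14]),
 (19,[15,18]),
 (20,[17,16]),
 (21,[16,18,15]),
 (22,[16,17,15]),
 (4,[20,1]),
 (5,[19,15,11]),
 (6,[18,21,14,12])]

theorem o_le : cl (gp on) oL ≤ cl (gp on) [1,2,3] := by
  rw [← cl_eq_of_slpB (k := 4) (D := oD) (L := [1,2,3]) on_ok (by norm_num) (by decide +kernel)]
  exact cl_mono (sub_of_subB (by decide +kernel))

theorem o_m1 : gp on 1 ∈ (cl (gp nets) L).map (MulAut.conj opi.perm).toMonoidHom :=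
  mem_conj_of_eqB (k := 4) (w := [4,5,1,1,6,1,1,7,1,4]) nets_ok (by norm_num) opi_ok (on_ok 1) (fun _ => mem_all) (by decide +kernel)

theorem o_m2 : gp on 2 ∈ (cl (gp nets) L).map (MulAut.conj opi.perm).toMonoidHom :=
  mem_conj_of_eqB (k := 4) (w := [2,5,1,4,6,1,7,6]) nets_ok (by norm_num) opi_ok (on_ok 2) (fun _ => mem_all) (by decide +kernel)

theorem o_m3 : gp on 3 ∈ (cl (gp nets) L).map (MulAut.conj opi.perm).toMonoidHom :=
  mem_conj_of_eqB (k := 4) (w := [5,1,6,4]) nets_ok (by norm_num) opi_ok (on_ok 3) (fun _ => mem_all) (by decide +kernel)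

theorem o_conj : cl (gp on) oL ≤ (cl (gp nets) L).map (MulAut.conj opi.perm).toMonoidHom :=
  o_le.trans (cl_le.2 (by simp only [List.forall_mem_cons]; exact ⟨o_m1, o_m2, o_m3, by simp⟩))

theorem o_ch : Nat.beq (chainB on oC oL) 7920 = true := by decide +kernel

theorem o_ex : Exact on oC oL := by
  have := nets_ok.finite L
  exact exact_of_beq ((card_le_of_conj o_conj).trans card.le) o_ch

noncomputable def tb : ℕ → ℕ → ℕ := tbx 12 (tbk 4 4 prs4 on 16)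

theorem tb_ok : TbA on tb := tbA_tbx on_ok (tbk_eq tr4 (by norm_num) (by norm_num) (by norm_num) on_ok)

noncomputable def par0 : ℕ := (nat_lit 0x104f30b294081200)

noncomputable def par1 : ℕ := (nat_lit 0x2ce34d4933cb380)

noncomputable def par2 : ℕ := (nat_lit 0x163d54564903c0)

noncomputable def par3 : ℕ := (nat_lit 0x554593553580)

noncomputable def oP : List (ℕ → ℕ) := [(fun p => look2 par0 6 256 (Nat.sub p 0)),
 (fun p => look2 par1 6 256 (Nat.sub p 1)),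
 (fun p => look2 par2 6 256 (Nat.sub p 2)),
 (fun p => look2 par3 6 256 (Nat.sub p 3))]

noncomputable def cxM : ℕ := (nat_lit 0)

theorem cx_b : centB on tb oC oL 1 0 0 11 [0,1,2,3] [] [1] [1,1,1,1,1,1,1,1,1,1] cxM = true := by decide +kernel

noncomputable def cxF (q : ℕ) : Bool := sift tb (fun e => witer tb [1] e q) [] oC oP oL [0,1,2,3] []

theorem cxA_0 : AllM cxM 256 cxF :=
  AllM.step (lo := 0) (m := 1) (AllM.zero _ _) (by decide +kernel)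

theorem cx_c : ∀ c ∈ cl (gp on) oL, Commute c (gp on 1) → c ∈ cl (gp on) [1] := fun _ hc hz =>
  Exact.cent on_ok tb_ok o_ex cx_b cxA_0 (by norm_num) (by norm_num) hc hz

noncomputable def cyM : ℕ := (nat_lit 0x60)

theorem cy_b : centB on tb oC oL 4 0 0 11 [0,1,2,3] [(4,4)] [4] [4,4,4,4] cyM = true := by decide +kernel

noncomputable def cyF (q : ℕ) : Bool := sift tb (fun e => witer tb [4] e q) [(4,4)] oC oP oL [0,1,2,3] []

theorem cyA_0 : AllM cyM 256 cyF :=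
  AllM.step (lo := 0) (m := 1) (AllM.zero _ _) (by decide +kernel)

theorem cy_c : ∀ c ∈ cl (gp on) oL, Commute c (gp on 4) → c ∈ cl (gp on) [4] := fun _ hc hz =>
  Exact.cent on_ok tb_ok o_ex cy_b cyA_0 (by norm_num) (by norm_num) hc hz

noncomputable def parO : ℕ := (nat_lit 0x4104100)

noncomputable def oO : ℕ := (nat_lit 0x1f)

noncomputable def oR : List (List ℕ × ℕ) := [([1,3],2),
 ([1,2,1,2,3],2)]

theorem o_b : outB on tb (bases oC) oL 11 3 1 3 0 oR [4] oO = true := by decide +kernel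

noncomputable def oF (q : ℕ) : Bool := walk tb (fun p => look2 parO 6 256 (Nat.sub p 0)) (msk [4]) 0 (fun ws => allL [1,2] (candB tb oR [(1,0)] 6 q ws)) 1000 q []

theorem oA_0 : AllM oO 256 oF :=
  AllM.step (lo := 0) (m := 1) (AllM.zero _ _) (by decide +kernel)

theorem o_phi {Γ : Type*} [Group Γ] (e : Γ ≃* cl (gp nets) L) : ∃ φ : Γ →* Equiv.Perm ℕ, Function.Injective φ ∧ φ.range = cl (gp on) oL := by
  have := nets_ok.finite L
  exact relabel e _ o_conj (card.trans_le (lb_of_chainB on_ok o_ch))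

theorem out_le {Γ : Type*} [Group Γ] (e : Γ ≃* cl (gp nets) L) : Finite (Out Γ) ∧ Nat.card (Out Γ) ≤ 1 := by
  obtain ⟨φ, h1, h2⟩ := o_phi e
  exact card_out_le on_ok tb_ok o_ex o_b cy_b cy_c (by norm_num) h1 h2 o_le (m := 720) (J := 5) (by norm_num)
    (((Nat.card_congr e.toEquiv).trans card).trans (by norm_num)) (by norm_num) (by norm_num) cx_c (by decide +kernel) (by norm_num) oA_0

theorem out_eq {Γ : Type*} [Group Γ] (e : Γ ≃* cl (gp nets) L) : Nat.card (Out Γ) = 1 := card_out_eq_one (out_le e)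

end Cfsg.Lib.Comp.M11x
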