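import Cfsg.Agent.Lib.Comp.M11x.Base

set_option maxRecDepth 100000
set_option Elab.async false

namespace Cfsg.Lib.Comp.M11x

universe u

noncomputable def nets_1 : Net :=
 (Net.cons 6 (nat_lit 0x28)
 (Net.cons 3 (nat_lit 0x100)
 (Net.cons 1 (nat_lit 0x248)
 (Net.cons 1 (nat_lit 0x80)
 (Net.cons 3 (nat_lit 0xc0)
 (Net.cons 6 (nat_lit 0x20)
 Net.nil))))))

noncomputable def nets_3 : Net :=
 (Net.cons 6 (nat_lit 0x30)
 (Net.cons 1 (nat_lit 0x208)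
 (Net.cons 1 (nat_lit 0x480)
 (Net.cons 1 (nat_lit 0x40)
 (Net.cons 3 (nat_lit 0x140)
 (Net.cons 6 (nat_lit 0x38)
 Net.nil))))))

noncomputable def nets_5 : Net :=
 (Net.cons 1 (nat_lit 0x208)
 (Net.cons 1 (nat_lit 0x80)
 (Net.cons 3 (nat_lit 0x4)
 (Net.cons 6 (nat_lit 0x18)
 Net.nil))))

noncomputable def nets_6 : Net :=
 (Net.cons 6 (nat_lit 0x6)
 (Net.cons 1 (nat_lit 0x248)
 (Net.cons 1 (nat_lit 0x2)
 (Net.cons 6 (nat_lit 0x6)
 Net.nil))))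

noncomputable def nets_7 : Net :=
 (Net.cons 6 (nat_lit 0x8)
 (Net.cons 3 (nat_lit 0x100)
 (Net.cons 1 (nat_lit 0x208)
 (Net.cons 1 (nat_lit 0x400)
 (Net.cons 1 (nat_lit 0x200)
 (Net.cons 3 (nat_lit 0x180)
 (Net.cons 6 (nat_lit 0x9)
 Net.nil)))))))

noncomputable def nets : List Net := [Net.nil,
 nets_1,
 Net.rev nets_1,
 nets_3,
 Net.rev nets_3,
 nets_5,
 nets_6,
 nets_7]

theorem nets_ok : NetsOK 12 nets := netsOK_of (by decide +kernel)

theorem nets_rel : Rels (gp nets) R := rels_of_relsB (k := 4) nets_ok (by norm_num) (by decide +kernel)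

theorem nets_iv : IvOK (gp nets) iv := ivOK_of_ivB (k := 4) nets_ok (by norm_num) (by decide +kernel)

noncomputable def slp : List (ℕ × List ℕ) := []

theorem slp_ok : slpB 12 4 nets slp L = true := by decide +kernel

theorem mem_all {x : ℕ} (h : x ∈ L ++ slp.map (·.1)) : gp nets x ∈ cl (gp nets) L :=
  cl_eq_of_slpB nets_ok (by norm_num) slp_ok ▸ mem_cl h

theorem lb : 7920 ≤ Nat.card (cl (gp nets) L) := by
  rw [← cl_eq_of_slpB nets_ok (by norm_num) slp_ok]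
  exact lb_of_chainB nets_ok (C := [([1,2,3,4,5,6],[7,1,3,7,1,5,6],0,0,11),
 ([1,2,3,4,5],[6,1,3,1,1,5],1,1,10),
 ([1,2,3,4],[5,1,3,1,1],2,2,9),
 ([],[1,3,1,1],3,3,8)]) (by decide +kernel)

end Cfsg.Lib.Comp.M11x
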