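import Cfsg.Agent.Lib.Comp.M11x.Perm

set_option maxRecDepth 100000
set_option Elab.async false

namespace Cfsg.Lib.Comp.M11x

universe u

noncomputable def T0_R : List (List ℕ × ℕ) := [([1],3),
 ([3],3),
 ([1,1,4,4],0),
 ([1,3,2,3],0),
 ([5],1),
 ([1,3,5,4,5,1,5],0),
 ([6],1),
 ([5,6],1),
 ([1,3,6,3,6,2,6],0),
 ([1,6],3),
 ([3,6],3),
 ([1,3,5,1,6,1,4,5,3,6],0),
 ([7],1),
 ([5,7],1),
 ([6,7],2),
 ([1,7],3),
 ([3,7],3),
 ([1,6,4,7,6,1,6,7],0),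
 ([1,2],0),
 ([3,4],0)]

theorem nets_rel_T0 : Rels (gp nets) T0_R := nets_rel.mono (by decide +kernel)

theorem T0_fin : finB 12 nets [1,2,3,4,5,6,7] 11 (runH 12 nets (fun x p => ptInv (nth Net.nil nets x) p) iv T0_R [] ([1,2,3,4,5,6].map fun x => [x]) 0 []
  [1,5,9,13,17,21,16,24,48,52,56,68,72,76,0,8,12,28,68,72,76,8,12,24,32,36,44,68,76,16,20,24,28,44,48,64,68,72,76,48,52]
  (defsH 12 nets (ones 96) [7,1,2,3,4,6,1,5] (Nat.shiftLeft 1 0) 0)) = true := by decide +kernel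

theorem T0_idx : Idx.{u} iv (T0_R ++ []) ([1,2,3,4,5,6].map fun x => [x]) [1,2,3,4,5,6,7] 11 :=
  Reach.idx nets_ok (reach_runH nets_ok (fun x p _ => ptInv_gp nets_ok x p) nets_rel_T0 (reach_defsH nets_ok _ _ _ _ _ _) _ _) T0_fin (by norm_num)

end Cfsg.Lib.Comp.M11x
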