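import Cfsg.Agent.Lib.Comp.M11x.Base

set_option maxRecDepth 100000
set_option Elab.async false

namespace Cfsg.Lib.Comp.M11x

universe u

noncomputable def T1_R : List (List ℕ × ℕ) := [([1],3),
 ([3],3),
 ([1,1,4,4],0),
 ([1,3,2,3],0),
 ([5],1),
 ([1,3,5,4,5,1,5],0),
 ([6],1),
 ([5,6],1),
 ([1,3,6,3,6,2,6],0),
 ([1,6],3),
 ([3,6],3),
 ([1,3,5,1,6,1,4,5,3,6],0),
 ([1,2],0),
 ([3,4],0)]

noncomputable def T1_n_1 : Net :=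
 (Net.cons 5 (nat_lit 0x4)
 (Net.cons 1 (nat_lit 0x84)
 (Net.cons 1 (nat_lit 0x4a)
 (Net.cons 1 (nat_lit 0xa0)
 (Net.cons 1 (nat_lit 0x40)
 (Net.cons 5 (nat_lit 0x8)
 Net.nil))))))

noncomputable def T1_n_3 : Net :=
 (Net.cons 1 (nat_lit 0xa0)
 (Net.cons 1 (nat_lit 0xa)
 (Net.cons 1 (nat_lit 0x4)
 (Net.cons 1 (nat_lit 0xa)
 (Net.cons 5 (nat_lit 0xe)
 Net.nil)))))

noncomputable def T1_n_5 : Net :=
 (Net.cons 5 (nat_lit 0x16)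
 (Net.cons 1 (nat_lit 0xa4)
 (Net.cons 1 (nat_lit 0x14a)
 (Net.cons 1 (nat_lit 0xa4)
 (Net.cons 1 (nat_lit 0xa)
 (Net.cons 5 (nat_lit 0x16)
 Net.nil))))))

noncomputable def T1_n_6 : Net :=
 (Net.cons 1 (nat_lit 0x25)
 (Net.cons 1 (nat_lit 0x48)
 (Net.cons 1 (nat_lit 0x24)
 (Net.cons 5 (nat_lit 0x8)
 Net.nil))))

noncomputable def T1_n : List Net := [Net.nil,
 T1_n_1,
 Net.rev T1_n_1,
 T1_n_3,
 Net.rev T1_n_3,
 T1_n_5,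
 T1_n_6]

theorem T1_n_ok : NetsOK 10 T1_n := netsOK_of (by decide +kernel)

theorem T1_n_rel : Rels (gp T1_n) T1_R := rels_of_relsB (k := 4) T1_n_ok (by norm_num) (by decide +kernel)

theorem T1_fin : finB 10 T1_n [1,2,3,4,5,6] 10 (runH 10 T1_n (fun x p => ptInv (nth Net.nil T1_n x) p) iv T1_R [] ([1,2,3,4,5].map fun x => [x]) 0 []
  [1,5,9,13,17,16,24,28,48,52,0,8,12,32,44,48,52,8,12,16,20,24,32,36,44,48,16,20,28]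
  (defsH 10 T1_n (ones 80) [6,1,2,3,4,1,5] (Nat.shiftLeft 1 0) 0)) = true := by decide +kernel

theorem T1_idx : Idx.{u} iv (T1_R ++ []) ([1,2,3,4,5].map fun x => [x]) [1,2,3,4,5,6] 10 :=
  Reach.idx T1_n_ok (reach_runH T1_n_ok (fun x p _ => ptInv_gp T1_n_ok x p) T1_n_rel (reach_defsH T1_n_ok _ _ _ _ _ _) _ _) T1_fin (by norm_num)

end Cfsg.Lib.Comp.M11x
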