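import Cfsg.Agent.Lib.Comp.M11x.Base

set_option maxRecDepth 100000
set_option Elab.async false

namespace Cfsg.Lib.Comp.M11x

universe u

noncomputable def T3_R : List (List ℕ × ℕ) := [([1],3),
 ([3],3),
 ([1,1,4,4],0),
 ([1,3,2,3],0),
 ([1,2],0),
 ([3,4],0)]

noncomputable def T3_n_1 : Net :=
 (Net.cons 4 (nat_lit 0x2)
 (Net.cons 1 (nat_lit 0x41)
 (Net.cons 2 (nat_lit 0x11)
 (Net.cons 4 (nat_lit 0x8)
 Net.nil))))

noncomputable def T3_n_3 : Net :=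
 (Net.cons 4 (nat_lit 0x6)
 (Net.cons 2 (nat_lit 0x20)
 (Net.cons 1 (nat_lit 0x41)
 (Net.cons 2 (nat_lit 0x2)
 (Net.cons 4 (nat_lit 0x3)
 Net.nil)))))

noncomputable def T3_n : List Net := [Net.nil,
 T3_n_1,
 Net.rev T3_n_1,
 T3_n_3,
 Net.rev T3_n_3]

theorem T3_n_ok : NetsOK 8 T3_n := netsOK_of (by decide +kernel)

theorem T3_n_rel : Rels (gp T3_n) T3_R := rels_of_relsB (k := 3) T3_n_ok (by norm_num) (by decide +kernel)

theorem T3_fin : finB 8 T3_n [1,2,3,4] 8 (runH 8 T3_n (fun x p => ptInv (nth Net.nil T3_n x) p) iv T3_R [] ([].map fun x => [x]) 0 []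
  [16,20,0,8,12,16,20,8,12]
  (defsH 8 T3_n (ones 64) [1,2,3,4,1] (Nat.shiftLeft 1 0) 0)) = true := by decide +kernel

theorem T3_idx : Idx.{u} iv (T3_R ++ []) ([].map fun x => [x]) [1,2,3,4] 8 :=
  Reach.idx T3_n_ok (reach_runH T3_n_ok (fun x p _ => ptInv_gp T3_n_ok x p) T3_n_rel (reach_defsH T3_n_ok _ _ _ _ _ _) _ _) T3_fin (by norm_num)

end Cfsg.Lib.Comp.M11x
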